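import Groth.Prelude.Def_W4c6eohyperellchar2Gc
import Mathlib.LinearAlgebra.Dimension.Constructions
import Mathlib.LinearAlgebra.Dimension.Finite
import Mathlib.Algebra.CharP.Lemmas
import Mathlib.LinearAlgebra.FreeModule.Finite.Basic

/-!
# The filtration of the nilpotent block
-/

set_option autoImplicit false
set_option maxHeartbeats 400000
universe u

open W4c6eohyperellchar2
open scoped Classical

noncomputable section

namespace Groth.Agent.NilBlock29

variable {c : ℕ} {k : Type u} [Field k]

theorem mem_Nfil {i : ℕ} {v : GcMod c k} :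
    v ∈ Nfil c k i ↔ (∀ n : Fin c, i ≤ n.val → v.2 n = 0) ∧ ∀ n : Fin c, n.val + 1 ≤ 2 * c - i → v.1 n = 0 := by
  constructor
  · intro hv
    induction hv using Submodule.span_induction with
    | mem x hx =>
      rcases hx with ⟨m, hm, rfl⟩ | ⟨m, hm, rfl⟩
      · refine ⟨fun n hn => ?_, fun n _ => rfl⟩
        simp only [Set.mem_Icc] at hm
        show (if n.val + 1 = m then (1 : k) else 0) = 0
        rw [if_neg]; omega
      · refine ⟨fun n _ => rfl, fun n hn => ?_⟩
        simp only [Set.mem_Ioc] at hm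
        show (if n.val + 1 = m then (1 : k) else 0) = 0
        rw [if_neg]; omega
    | zero => exact ⟨fun _ _ => rfl, fun _ _ => rfl⟩
    | add x y _ _ hx hy => exact ⟨fun n hn => by simp [hx.1 n hn, hy.1 n hn], fun n hn => by simp [hx.2 n hn, hy.2 n hn]⟩
    | smul t x _ hx => exact ⟨fun n hn => by simp [hx.1 n hn], fun n hn => by simp [hx.2 n hn]⟩
  · rintro ⟨h2, h1⟩
    have e : v = (∑ n : Fin c, v.2 n • Y c k (n.val + 1)) + ∑ n : Fin c, v.1 n • X c k (n.val + 1) := by
      refine Prod.ext (funext fun m => ?_) (funext fun m => ?_) <;>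
        simp [X, Y, Prod.fst_sum, Prod.snd_sum, Finset.sum_apply, Fin.val_inj]
    rw [e]
    refine add_mem (Submodule.sum_mem _ fun n _ => ?_) (Submodule.sum_mem _ fun n _ => ?_)
    · by_cases hn : i ≤ n.val
      · rw [h2 n hn, zero_smul]; exact zero_mem _
      · exact Submodule.smul_mem _ _ (Submodule.subset_span (Or.inl ⟨n.val + 1, ⟨by omega, by omega⟩, rfl⟩))
    · by_cases hn : n.val + 1 ≤ 2 * c - i
      · rw [h1 n hn, zero_smul]; exact zero_mem _
      · exact Submodule.smul_mem _ _ (Submodule.subset_span (Or.inr ⟨n.val + 1, ⟨by omega, by omega⟩, rfl⟩))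

theorem finrank_Nfil (i : ℕ) (hi : i ≤ 2 * c) : Module.finrank k (Nfil c k i) = i := by
  let A : Finset (Fin c) := Finset.univ.filter fun n => n.val < i
  let B : Finset (Fin c) := Finset.univ.filter fun n => 2 * c - i ≤ n.val
  let f : Nfil c k i →ₗ[k] (↥A → k) × (↥B → k) :=
    { toFun := fun v => (fun n => v.1.2 n.1, fun n => v.1.1 n.1)
      map_add' := fun _ _ => rfl
      map_smul' := fun _ _ => rfl }
  have hf : Function.Bijective f := by
    refine ⟨fun v w h => ?_, fun p => ?_⟩
    · refine Subtype.ext (Prod.ext (funext fun n => ?_) (funext fun n => ?_))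
      · by_cases hn : n ∈ B
        · exact congrFun (congrArg Prod.snd h) ⟨n, hn⟩
        · simp [B] at hn
          rw [(mem_Nfil.1 v.2).2 n (by omega), (mem_Nfil.1 w.2).2 n (by omega)]
      · by_cases hn : n ∈ A
        · exact congrFun (congrArg Prod.fst h) ⟨n, hn⟩
        · simp [A] at hn
          rw [(mem_Nfil.1 v.2).1 n hn, (mem_Nfil.1 w.2).1 n hn]
    · refine ⟨⟨(fun n => if h : n ∈ B then p.2 ⟨n, h⟩ else 0, fun n => if h : n ∈ A then p.1 ⟨n, h⟩ else 0),
        mem_Nfil.2 ⟨fun n hn => dif_neg (by simp [A]; omega), fun n hn => dif_neg (by simp [B]; omega)⟩⟩, ?_⟩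
      exact Prod.ext (funext fun n => dif_pos n.2) (funext fun n => dif_pos n.2)
  rw [(LinearEquiv.ofBijective f hf).finrank_eq, Module.finrank_prod, Module.finrank_fintype_fun_eq_card,
    Module.finrank_fintype_fun_eq_card, Fintype.card_coe, Fintype.card_coe]
  have hA : A.image Fin.val = Finset.range (min i c) := by
    ext m; simp [A]
    exact ⟨fun ⟨a, h, e⟩ => e ▸ ⟨h, a.2⟩, fun ⟨h1, h2⟩ => ⟨⟨m, h2⟩, h1, rfl⟩⟩
  have hB : B.image Fin.val = Finset.Ico (2 * c - i) c := by
    ext m; simp [B]
    exact ⟨fun ⟨a, h, e⟩ => e ▸ ⟨h, a.2⟩, fun ⟨h1, h2⟩ => ⟨⟨m, h2⟩, h1, rfl⟩⟩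
  rw [← Finset.card_image_of_injective A Fin.val_injective, ← Finset.card_image_of_injective B Fin.val_injective, hA, hB,
    Finset.card_range, Nat.card_Ico]
  omega

variable [CharP k 2] [PerfectRing k 2]

theorem NV_add (a : ℕ → k) (v w : GcMod c k) : NV c k a (v + w) = NV c k a v + NV c k a w := by
  have hY : ∀ n, coefY (v + w) n = coefY v n + coefY w n := fun n => by unfold coefY; split_ifs <;> simp
  refine Prod.ext (by simp [NV]) (funext fun i => ?_)
  simp only [NV, hY, map_add, Prod.fst_add, Prod.snd_add, Pi.add_apply, add_mul, ite_add_zero, Finset.sum_add_distrib]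
  abel

theorem NV_image (a : ℕ → k) (ha : a c ≠ 0) (i : ℕ) (hi : i ≤ 2 * c) :
    NV c k a '' (Nfil c k i : Set (GcMod c k)) = (Nfil c k (i / 2) : Set (GcMod c k)) := by
  refine Set.Subset.antisymm ?_ ?_
  · rintro _ ⟨v, hv, rfl⟩
    obtain ⟨h2, h1⟩ := mem_Nfil.1 hv
    refine mem_Nfil.2 ⟨fun n hn => ?_, fun n _ => rfl⟩
    show _ + _ = (0 : k)
    rw [show coefY v (2 * (n.val + 1)) = 0 by
      unfold coefY; split_ifs with h
      · exact h2 _ (by simp; omega)
      · rfl, map_zero, zero_add]
    refine Finset.sum_eq_zero fun j _ => ?_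
    split_ifs with h
    · rw [h1 j (by omega), zero_mul, map_zero]
    · rfl
  · suffices H : ∀ n, n ≤ i / 2 → ∀ w ∈ Nfil c k n, w ∈ NV c k a '' (Nfil c k i : Set (GcMod c k)) from
      fun w hw => H _ le_rfl w hw
    intro n
    induction n with
    | zero =>
      intro _ w hw
      refine ⟨0, zero_mem _, ?_⟩
      obtain ⟨h2, h1⟩ := mem_Nfil.1 hw
      refine Prod.ext (funext fun m => ?_) (funext fun m => ?_)
      · rw [h1 m (by omega)]; rfl
      · rw [h2 m (Nat.zero_le _)]; simp [NV, coefY]
    | succ n ih =>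
      intro hn w hw
      obtain ⟨h2, h1⟩ := mem_Nfil.1 hw
      set t : k := w.2 ⟨n, by omega⟩
      obtain ⟨z, hz, hzn, hz2⟩ : ∃ z ∈ Nfil c k i, (NV c k a z).2 ⟨n, by omega⟩ = t ∧
          ∀ m : Fin c, n < m.val → (NV c k a z).2 m = 0 := by
        by_cases hc : 2 * (n + 1) ≤ c
        · refine ⟨(0, fun q => if q.val + 1 = 2 * (n + 1) then t ^ 2 else 0),
            mem_Nfil.2 ⟨fun q hq => if_neg (by omega), fun q _ => rfl⟩, ?_, fun m hm => ?_⟩
          · simp [NV, coefY, dif_pos (show 2 * (n + 1) ≤ c from hc), show 2 * (n + 1) - 1 + 1 = 2 * (n + 1) by omega]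
            rw [if_pos ⟨by omega, hc⟩]
            exact (frobeniusEquiv k 2).symm_apply_apply t
          · simp [NV, coefY]
            intro h1
            omega
        · have hj : 2 * (c - (n + 1)) < c := by omega
          refine ⟨(fun q => if q.val = 2 * (c - (n + 1)) then t ^ 2 / a c else 0, 0),
            mem_Nfil.2 ⟨fun q _ => rfl, fun q hq => if_neg (by omega)⟩, ?_, fun m hm => ?_⟩
          · show _ + _ = t
            rw [Finset.sum_eq_single ⟨2 * (c - (n + 1)), hj⟩ (fun q _ hq => by
              dsimp only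
              rw [if_neg (fun e : q.val = 2 * (c - (n + 1)) => hq (Fin.ext e))]; simp)
              (fun h => absurd (Finset.mem_univ _) h),
              if_pos ⟨by dsimp; omega, by dsimp; omega⟩]
            dsimp only
            rw [if_pos rfl, show n + 1 + 2 * (c - (n + 1)) / 2 = c by omega, div_mul_cancel₀ _ ha]
            simp [coefY]
          · show _ + _ = (0 : k)
            rw [Finset.sum_eq_zero fun q _ => ?_]
            · simp [coefY]
            · split_ifs with hh
              · dsimp only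
                split_ifs with hq
                · omega
                · simp
              · rfl
      obtain ⟨u, hu, hue⟩ := ih (by omega) (w - NV c k a z) (mem_Nfil.2 ⟨fun m hm => by
        show w.2 m - (NV c k a z).2 m = 0
        rcases Nat.eq_or_lt_of_le hm with e | e
        · rw [show m = ⟨n, by omega⟩ from Fin.ext e.symm, hzn]; exact sub_self t
        · rw [hz2 m e, h2 m e, sub_zero], fun m hm => by
        show w.1 m - 0 = 0
        rw [h1 m (by omega), sub_zero]⟩)
      exact ⟨u + z, add_mem hu hz, by rw [NV_add, hue, sub_add_cancel]⟩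

omit [CharP k 2] [PerfectRing k 2] in
theorem NF_preimage (a : ℕ → k) (ha : a c ≠ 0) (i : ℕ) (hi : i ≤ 2 * c) :
    NF c k a ⁻¹' (Nfil c k i : Set (GcMod c k)) = (Nfil c k (c + (i + 1) / 2) : Set (GcMod c k)) := by
  ext v
  simp only [Set.mem_preimage, SetLike.mem_coe, mem_Nfil]
  constructor
  · rintro ⟨h2, h1⟩
    refine ⟨fun n hn => absurd n.2 (by omega), ?_⟩
    suffices H : ∀ m, ∀ n : Fin c, n.val = m → n.val + 1 ≤ 2 * c - (c + (i + 1) / 2) → v.1 n = 0 from
      fun n hn => H _ n rfl hn
    intro m
    induction m using Nat.strong_induction_on with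
    | _ m ih =>
      intro n hnm hn
      by_cases hc : 2 * (n.val + 1) ≤ c
      · have := h1 ⟨2 * n.val + 1, by omega⟩ (by dsimp; omega)
        simp only [NF, coefX] at this
        rw [if_pos (by omega), dif_pos ⟨by omega, by omega⟩] at this
        refine (pow_eq_zero_iff (two_ne_zero)).1 (?_ : v.1 n ^ 2 = 0)
        refine Eq.trans ?_ this
        have e : ∀ q : Fin c, q.val = n.val → v.1 n ^ 2 = v.1 q ^ 2 := fun q hq => by rw [Fin.ext hq]
        exact e _ (show (2 * n.val + 1 + 1) / 2 - 1 = n.val by omega)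
      · have hm : 2 * (c - (n.val + 1)) < c := by omega
        have := h2 ⟨2 * (c - (n.val + 1)), hm⟩ (by dsimp; omega)
        simp only [NF] at this
        rw [if_pos (by omega), Finset.sum_eq_single n (fun q _ hq => ?_) (fun h => absurd (Finset.mem_univ _) h),
          if_pos ⟨by omega, by omega⟩, show n.val + 1 + 2 * (c - (n.val + 1)) / 2 = c by omega] at this
        · exact (pow_eq_zero_iff two_ne_zero).1 ((mul_eq_zero.1 this).resolve_right ha)
        · split_ifs with hh
          · rw [ih q.val (by have := Fin.val_ne_of_ne hq; omega) q rfl (by omega), zero_pow two_ne_zero, zero_mul]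
          · rfl
  · rintro ⟨-, h1⟩
    refine ⟨fun n hn => ?_, fun n hn => ?_⟩
    · simp only [NF]
      split_ifs with ho
      · refine Finset.sum_eq_zero fun q _ => ?_
        split_ifs with hq
        · rw [h1 q (by omega), zero_pow two_ne_zero, zero_mul]
        · rfl
      · rfl
    · simp only [NF]
      split_ifs with ho
      · unfold coefX
        split_ifs with hh
        · rw [h1 _ (by simp; omega), zero_pow two_ne_zero]
        · rw [zero_pow two_ne_zero]
      · rfl

end Groth.Agent.NilBlock29
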